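import Groth.Agent.FrobSplit.Power
import Groth.Agent.CurveRR.Curve

/-!
# Dimension inequality for a Frobenius split proper scheme
-/

set_option autoImplicit false
set_option linter.style.haveILetI false
set_option backward.isDefEq.respectTransparency false
set_option backward.isDefEq.respectTransparency.types false

universe u

open CategoryTheory AlgebraicGeometry Opposite

noncomputable section

namespace Groth.Agent.FrobSplit

theorem finrank_le_of_semilinear {k V W : Type*} [Field k] (p : ℕ) [Fact p.Prime] [CharP k p] [PerfectRing k p]
    [AddCommGroup V] [Module k V] [Module.Finite k V] [AddCommGroup W] [Module k W] [Module.Finite k W]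
    (T : V →+ W) (hT : Function.Injective T) (hsemi : ∀ (c : k) (v : V), T (c • v) = c ^ p • T v) :
    Module.finrank k V ≤ Module.finrank k W := by
  let b := Module.finBasis k V
  have hli : LinearIndependent k (fun j => T (b j)) := by
    rw [Fintype.linearIndependent_iff]
    intro g hg j
    choose d hd₀ using fun j => (PerfectRing.bijective_frobenius (R := k) (p := p)).2 (g j)
    have hd : ∀ j, d j ^ p = g j := hd₀
    have h1 : T (∑ j, d j • b j) = T 0 := by
      rw [map_sum, map_zero, ← hg]
      exact Finset.sum_congr rfl fun j _ => by rw [hsemi, hd]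
    rw [← hd j, Fintype.linearIndependent_iff.1 b.linearIndependent d (hT h1) j,
      zero_pow (Fact.out : p.Prime).ne_zero]
  simpa using hli.fintype_card_le_finrank

theorem isInvertible_tensorPow {X : Scheme.{u}} {L : X.Modules} (hL : PicF.IsInvertible L) (n : ℕ) :
    PicF.IsInvertible (CohB1.tensorPow L n) := by
  induction n with
  | zero => exact PicLoc.isInvertible_structureModule X
  | succ n ih => exact TMul.isInvertible_tensorMod ih hL

theorem finite_hh (k : Type u) [Field k] (X : Scheme.{u}) [X.Over (Spec (CommRingCat.of k))]
    [IsProper (X ↘ Spec (CommRingCat.of k))] {L : X.Modules} (hL : PicF.IsInvertible L) (i : ℕ) :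
    Module.Finite k (Coh.HH X L i) := by
  haveI := LocallyOfFiniteType.isLocallyNoetherian (X ↘ Spec (CommRingCat.of k))
  exact CohFinite.finite_proper k X L (K0Coh.isCoh_of_isFinLocFree fun y =>
    let ⟨U, hU, h⟩ := CurveRR.isFinLocFreeOfRank_one hL y; ⟨U, 1, hU, h⟩) i

end Groth.Agent.FrobSplit
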