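import Groth.Agent.FrobSplit.Finrank
import Groth.Agent.Nakai.UnifReg
import Groth.Agent.SerrePn.ClosedStatements
import Groth.Agent.SerrePn.Equidim
import Groth.Agent.CMFlat.Quotient
import Groth.Agent.SmLocalST.SmoothField
import Groth.Agent.W7Cube.Pic
import Groth.Agent.CohQC.Restrict
import Groth.Agent.DerPerf.Local

/-!
# Kodaira vanishing for Frobenius split smooth proper schemes
-/

set_option autoImplicit false
set_option linter.style.haveILetI false
set_option linter.unusedSectionVars false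
set_option backward.isDefEq.respectTransparency false
set_option backward.isDefEq.respectTransparency.types false

universe u

open CategoryTheory AlgebraicGeometry Opposite
open Groth.Agent.Nakai (cl_tensor cl_pow cl_one iso_of_cl)

noncomputable section

namespace Groth.Agent.FrobSplit

attribute [local instance] Groth.Agent.Nakai.clMonoid

variable (k : Type u) [Field k] {X : Scheme.{u}} [X.Over (Spec (CommRingCat.of k))]
  [IsProper (X ↘ Spec (CommRingCat.of k))] [Smooth (X ↘ Spec (CommRingCat.of k))] [IrreducibleSpace X]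

include k in
/-- High negative powers of an ample module have no cohomology below the dimension. -/
theorem exists_vanishing (n : ℕ) (hn : topologicalKrullDim X = n) {L Linv : X.Modules} (hL : CohB1.IsAmple L)
    (hi : PicF.IsInvertible Linv) (hinv : ClSub.IsInverseOf Linv L) :
    ∃ m₀ : ℕ, ∀ m, m₀ ≤ m → ∀ j, j < n → Subsingleton (Coh.HH X (CohB1.tensorPow Linv m) j) := by
  obtain ⟨N, d, r, hd, hr, hrc, ⟨e⟩⟩ :=
    AmpleEmb.exists_closedImmersion_projSpace (X ↘ Spec (CommRingCat.of k)) hL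
  haveI := hrc
  have hCM : ∀ x : X, IsClosed ({x} : Set ↥X) →
      LocCoh.IsCohenMacaulayLocalRing (X.presheaf.stalk x) ∧ ringKrullDim (X.presheaf.stalk x) = n := fun x hx => by
    haveI := SmLocalST.isRegularLocalRing_stalk_of_smooth_field (X ↘ Spec (CommRingCat.of k)) x
    refine ⟨CMFlat.isCohenMacaulayLocalRing_of_isRegularLocalRing _,
      SerrePn.ringKrullDim_stalk_of_equidim (X ↘ Spec (CommRingCat.of k)) n hn (fun Z hZ => ?_) x hx⟩
    rw [irreducibleComponents_eq_singleton, Set.mem_singleton_iff] at hZ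
    rw [hZ, IsHomeomorph.topologicalKrullDim_eq _ (Homeomorph.Set.univ X).isHomeomorph, hn]
  choose q₀ hq₀ using fun s : Fin d => SerrePn.vanish_vb_of_cm r hr hCM (CohB1.tensorPow Linv s)
    (fun y => let ⟨U, hU, h⟩ := CurveRR.isFinLocFreeOfRank_one (isInvertible_tensorPow hi (s : ℕ)) y; ⟨U, 1, hU, h⟩)
  refine ⟨d * (∑ s, q₀ s + 1), fun m hm j hj => ?_⟩
  let s : Fin d := ⟨m % d, Nat.mod_lt _ hd⟩
  have hq : q₀ s ≤ m / d := by
    refine (Finset.single_le_sum (fun i _ => Nat.zero_le (q₀ i)) (Finset.mem_univ s)).trans ?_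
    rw [Nat.le_div_iff_mul_le hd]
    nlinarith
  have h := hq₀ s (m / d) hq j hj
  have h1 : PicF.cl Linv * PicF.cl L = 1 := by
    rw [← cl_tensor, ← cl_one]
    exact (PicGrp.cl_eq_cl_iff _ _).2 hinv
  have h2 : PicF.cl ((Scheme.Modules.pullback r).obj (Twist.twistProjSpace N k ((m / d : ℕ) : ℤ))) =
      PicF.cl L ^ (d * (m / d)) := by
    rw [Nakai.cl_pull_twist, (PicGrp.cl_eq_cl_iff _ _).2 ⟨e⟩, cl_pow, ← pow_mul]
  have h3 : PicF.cl ((Scheme.Modules.pullback r).obj (Twist.twistProjSpace N k ((m / d : ℕ) : ℤ))) *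
      PicF.cl (SerrePn.Lx r (-((m / d : ℕ) : ℤ))) = 1 := by
    obtain ⟨e0⟩ := Intersect.nonempty_twist_inverse k N (m / d)
    rw [← cl_tensor, ← cl_one]
    obtain ⟨e1⟩ := TMul.nonempty_pullTensorIso r (Twist.twistProjSpace N k ((m / d : ℕ) : ℤ))
      (Twist.twistProjSpace N k (-((m / d : ℕ) : ℤ)))
    exact (PicGrp.cl_eq_cl_iff _ _).2
      ⟨e1 ≪≫ (Scheme.Modules.pullback r).mapIso e0 ≪≫ DerPerf.pullUnitIso r⟩
  have h4 : PicF.cl (CohB1.tensorMod (CohB1.tensorPow Linv s) (SerrePn.Lx r (-((m / d : ℕ) : ℤ)))) =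
      PicF.cl (CohB1.tensorPow Linv m) := by
    rw [h2] at h3
    have h5 : PicF.cl Linv ^ (d * (m / d)) * PicF.cl L ^ (d * (m / d)) = 1 := by
      rw [← mul_pow, h1, one_pow]
    rw [cl_tensor, cl_pow, cl_pow, ← left_inv_eq_right_inv h5 h3, ← pow_add]
    exact congrArg (PicF.cl Linv ^ ·) (Nat.mod_add_div m d)
  exact CohQC.hh_subsingleton_of_iso (iso_of_cl h4).some j h


include k in
/-- Kodaira vanishing. -/
theorem subsingleton_hh (p : ℕ) [Fact p.Prime] (n : ℕ) (hn : topologicalKrullDim X = n)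
    (φ : Coh.toAb (Coh.structureModule X) ⟶ Coh.toAb (Coh.structureModule X))
    (hφ : ∀ (U : X.Opens) (t : Γ(X, U)), φ.hom.app (op U) t = t ^ p)
    (s : Coh.toAb (Coh.structureModule X) ⟶ Coh.toAb (Coh.structureModule X))
    (hs : φ ≫ s = 𝟙 _)
    (hlin : ∀ (U : X.Opens) (a b : Γ(X, U)), s.hom.app (op U) (a ^ p * b) = a * @id Γ(X, U) (s.hom.app (op U) b))
    {L Linv : X.Modules} (hL : CohB1.IsAmple L) (hinv : ClSub.IsInverseOf Linv L) (hi : PicF.IsInvertible Linv)
    {i : ℕ} (hin : i < n) : Subsingleton (Coh.HH X Linv i) := by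
  obtain ⟨m₀, hm₀⟩ := exists_vanishing k n hn hL hi hinv
  have step : ∀ e : ℕ, Subsingleton (Coh.HH X (CohB1.tensorPow Linv (p ^ e)) i) →
      Subsingleton (Coh.HH X Linv i) := fun e => by
    induction e with
    | zero =>
      refine fun h => CohQC.hh_subsingleton_of_iso (iso_of_cl ?_).some i h
      rw [cl_pow, pow_zero, pow_one]
    | succ e ih =>
      intro h
      refine ih ?_
      obtain ⟨T, hT, -⟩ := exists_semilinear p φ hφ s hs hlin (isInvertible_tensorPow hi (p ^ e)) k i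
      have h' : Subsingleton (Coh.HH X (CohB1.tensorPow (CohB1.tensorPow Linv (p ^ e)) p) i) := by
        refine CohQC.hh_subsingleton_of_iso (iso_of_cl ?_).some i h
        rw [cl_pow, cl_pow, cl_pow, ← pow_mul, pow_succ]
      exact hT.subsingleton
  exact step m₀ (hm₀ _ (Nat.lt_pow_self (Fact.out : p.Prime).one_lt).le i hin)

end Groth.Agent.FrobSplit
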