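import Groth.Agent.TMul.Basic
import Groth.Agent.TMul.Power
import Groth.Agent.TMul.AmpleCrit
import Groth.Agent.ZCl.Basic
import Groth.Agent.CohFinite.Proper
import Groth.Agent.K0Coh.Basic

/-!
# A Frobenius splitting splits the `p`-th power map of every invertible module
-/

set_option autoImplicit false
set_option linter.style.haveILetI false
set_option backward.isDefEq.respectTransparency false
set_option backward.isDefEq.respectTransparency.types false

universe u

open CategoryTheory AlgebraicGeometry Opposite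
open Groth.Agent.QC (res resO res_res res_self res_smul resO_resO section_eq_of_locally)
open TMul (IsGen tm pw res_pw pw_smul isGen_pw)

noncomputable section

namespace Groth.Agent.FrobSplit

variable {X : Scheme.{u}} (L : X.Modules)

variable (p : ℕ) [Fact p.Prime]
  (φ : Coh.toAb (Coh.structureModule X) ⟶ Coh.toAb (Coh.structureModule X))
  (hφ : ∀ (U : X.Opens) (t : Γ(X, U)), φ.hom.app (op U) t = t ^ p)
  (s : Coh.toAb (Coh.structureModule X) ⟶ Coh.toAb (Coh.structureModule X))
  (hs : φ ≫ s = 𝟙 _)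
  (hlin : ∀ (U : X.Opens) (a b : Γ(X, U)), s.hom.app (op U) (a ^ p * b) = a * @id Γ(X, U) (s.hom.app (op U) b))

/-- The splitting on sections. -/
def sp (U : X.Opens) : Γ(X, U) →+ Γ(X, U) where
  toFun b := s.hom.app (op U) b
  map_zero' := map_zero _
  map_add' := map_add _

theorem sp_res {U V : X.Opens} (h : V ≤ U) (b : Γ(X, U)) : resO X h (sp s U b) = sp s V (resO X h b) :=
  (ConcreteCategory.congr_hom (s.hom.naturality (homOfLE h).op) b).symm

include hφ in
theorem add_pow_eq {U : X.Opens} (a b : Γ(X, U)) : (a + b) ^ p = a ^ p + b ^ p := by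
  rw [← hφ U (a + b), ← hφ U a, ← hφ U b]
  exact map_add _ a b

include hlin in
theorem sp_pow_mul {U : X.Opens} (a b : Γ(X, U)) : sp s U (a ^ p * b) = a * sp s U b := hlin U a b

include hs hφ hlin in
theorem sp_pow {U : X.Opens} (a : Γ(X, U)) : sp s U (a ^ p) = a := by
  have h1 : sp s U (1 : Γ(X, U)) = 1 := by
    have h : sp s U (@id Γ(X, U) (φ.hom.app (op U) (1 : Γ(X, U)))) = (1 : Γ(X, U)) :=
      ConcreteCategory.congr_hom (congrArg (fun f : Coh.toAb (Coh.structureModule X) ⟶ Coh.toAb (Coh.structureModule X) =>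
        f.hom.app (op U)) hs) (1 : Γ(X, U))
    have h2 : @id Γ(X, U) (φ.hom.app (op U) (1 : Γ(X, U))) = (1 : Γ(X, U)) := (hφ U (1 : Γ(X, U))).trans (one_pow (M := Γ(X, U)) p)
    exact (congrArg (sp s U) h2).symm.trans h
  rw [← mul_one (a ^ p), sp_pow_mul p s hlin, h1, mul_one]

include hlin in
theorem sp_compat {W : X.Opens} {e e' : Γ(L, W)} (he : IsGen e) (he' : IsGen e') {b b' : Γ(X, W)}
    (h : b • pw e p = b' • pw e' p) : sp s W b • e = sp s W b' • e' := by
  obtain ⟨v, hv⟩ := (he' W le_rfl).2 e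
  change v • res L le_rfl e' = e at hv
  rw [res_self] at hv
  have h1 : v ^ p * b = b' := by
    refine (isGen_pw he' p W le_rfl).1 ?_
    change (v ^ p * b) • res _ le_rfl (pw e' p) = b' • res _ le_rfl (pw e' p)
    rw [res_self, ← h, ← hv, pw_smul, smul_smul, mul_comm]
  rw [← h1, sp_pow_mul p s hlin, ← hv, smul_smul, mul_comm]

/-- The defining property of the image of a section under the retraction. -/
def Retr {U : X.Opens} (t : Γ(CohB1.tensorPow L p, U)) (w : Γ(L, U)) : Prop :=
  ∀ (W : X.Opens) (h : W ≤ U) (e : Γ(L, W)), IsGen e → ∀ b : Γ(X, W),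
    res _ h t = b • pw e p → res L h w = sp s W b • e

variable {L} (hL : PicF.IsInvertible L)

include hL in
theorem exists_data {U : X.Opens} {x : X} (hx : x ∈ U) :
    ∃ (W : X.Opens) (_ : W ≤ U) (e : Γ(L, W)), x ∈ W ∧ IsGen e := by
  obtain ⟨D, g, hxD, hg⟩ := TMul.exists_isGen hL x
  exact ⟨D ⊓ U, inf_le_right, res L inf_le_left g, ⟨hxD, hx⟩, hg.res inf_le_left⟩

include hL in
theorem retr_unique {U : X.Opens} {t : Γ(CohB1.tensorPow L p, U)} {w w' : Γ(L, U)}
    (h : Retr L p s t w) (h' : Retr L p s t w') : w = w' := section_eq_of_locally fun x hx => by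
  obtain ⟨W, hW, e, hxW, he⟩ := exists_data hL hx
  obtain ⟨b, hb⟩ := (isGen_pw he p W le_rfl).2 (res _ hW t)
  change b • res _ le_rfl (pw e p) = _ at hb
  rw [res_self] at hb
  exact ⟨W, hW, hxW, (h W hW e he b hb.symm).trans (h' W hW e he b hb.symm).symm⟩

include hL hlin in
theorem exists_retr {U : X.Opens} (t : Γ(CohB1.tensorPow L p, U)) : ∃ w, Retr L p s t w := by
  choose W hW e hxW he using fun i : ↥U => exists_data hL i.2
  choose b hb using fun i : ↥U => (isGen_pw (he i) p (W i) le_rfl).2 (res _ (hW i) t)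
  simp only [res_self] at hb
  have key : ∀ (i : ↥U) (V : X.Opens) (hV : V ≤ W i) (e' : Γ(L, V)), IsGen e' → ∀ b' : Γ(X, V),
      res _ (hV.trans (hW i)) t = b' • pw e' p →
      res L hV (sp s (W i) (b i) • e i) = sp s V b' • e' := fun i V hV e' he' b' h' => by
    rw [res_smul, sp_res]
    refine sp_compat L p s hlin ((he i).res hV) he' ?_
    rw [← res_pw, ← res_smul, hb i, res_res, h']
  obtain ⟨w, hw⟩ := ZCl.glue L W hW (fun x hx => ⟨⟨x, hx⟩, hxW ⟨x, hx⟩⟩)
    (fun i => sp s (W i) (b i) • e i) fun i j => by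
      obtain h := key j (W i ⊓ W j) inf_le_right _ ((he i).res inf_le_left) (resO X inf_le_left (b i))
        (by rw [← res_pw, ← res_smul, hb i, res_res])
      exact ((res_smul L inf_le_left (sp s (W i) (b i)) (e i)).trans (by rw [sp_res])).trans h.symm
  refine ⟨w, fun V hV e' he' b' h' => section_eq_of_locally fun x hx => ?_⟩
  let i : ↥U := ⟨x, hV hx⟩
  refine ⟨V ⊓ W i, inf_le_left, ⟨hx, hxW i⟩, ?_⟩
  rw [res_res, ← res_res L (inf_le_right : V ⊓ W i ≤ W i) (hW i), show res L (hW i) w = _ from hw i,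
    key i _ inf_le_right _ (he'.res inf_le_left) (resO X inf_le_left b')
      (by rw [← res_pw, ← res_smul, ← h', res_res]), res_smul, sp_res]

include hφ hL in
theorem pw_add {U : X.Opens} (t t' : Γ(L, U)) : pw (t + t') p = pw t p + pw t' p :=
  section_eq_of_locally fun x hx => by
    obtain ⟨W, hW, e, hxW, he⟩ := exists_data hL hx
    refine ⟨W, hW, hxW, ?_⟩
    obtain ⟨a, ha⟩ := (he W le_rfl).2 (res L hW t)
    obtain ⟨a', ha'⟩ := (he W le_rfl).2 (res L hW t')
    simp only [res_self] at ha ha'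
    rw [map_add, res_pw, res_pw, res_pw, map_add, ← ha, ← ha', ← add_smul, pw_smul, pw_smul, pw_smul,
      add_pow_eq p φ hφ, add_smul]

include hφ in
/-- The `p`-th power map of an invertible module. -/
def powHom : Coh.toAb L ⟶ Coh.toAb (CohB1.tensorPow L p) :=
  ⟨{ app := fun U => AddCommGrpCat.ofHom
      (AddMonoidHom.mk' (fun t : Γ(L, U.unop) => pw t p) fun t t' => pw_add p φ hφ hL t t')
     naturality := fun U V i => by
      ext t
      exact (res_pw (leOfHom i.unop) t p).symm }⟩

include hlin hL in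
theorem exists_retraction (hs' : ∀ (U : X.Opens) (a : Γ(X, U)), sp s U (a ^ p) = a) :
    ∃ β : Coh.toAb (CohB1.tensorPow L p) ⟶ Coh.toAb L, powHom p φ hφ hL ≫ β = 𝟙 _ := by
  choose w hw using fun (U : X.Opens) (t : Γ(CohB1.tensorPow L p, U)) => exists_retr p s hlin hL t
  have hadd : ∀ U t t', w U (t + t') = w U t + w U t' := fun U t t' =>
    retr_unique p s hL (hw U _) fun W h e he b hb => by
      obtain ⟨c, hc⟩ := (isGen_pw he p W le_rfl).2 (res _ h t)
      obtain ⟨c', hc'⟩ := (isGen_pw he p W le_rfl).2 (res _ h t')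
      simp only [res_self] at hc hc'
      have hbc : b = c + c' := by
        refine (isGen_pw he p W le_rfl).1 ?_
        change b • res _ le_rfl _ = (c + c') • res _ le_rfl _
        rw [res_self, ← hb, add_smul, hc, hc', map_add]
      rw [map_add, hw U t W h e he c hc.symm, hw U t' W h e he c' hc'.symm, hbc, map_add, add_smul]
  refine ⟨⟨{ app := fun U => AddCommGrpCat.ofHom (AddMonoidHom.mk' (w U.unop) (hadd U.unop))
             naturality := fun U V i => by
              ext t
              refine retr_unique p s hL (hw V.unop _) fun W h e he b hb => ?_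
              refine (res_res L h (leOfHom i.unop) _).trans ?_
              exact hw U.unop t W _ e he b ((res_res _ h (leOfHom i.unop) t).symm.trans hb) }⟩, ?_⟩
  ext U t
  refine (retr_unique p s hL (hw U.unop _) fun W h e he b hb => ?_ : w U.unop (pw t p) = t)
  obtain ⟨a, ha⟩ := (he W le_rfl).2 (res L h t)
  simp only [res_self] at ha
  rw [res_pw, ← ha, pw_smul] at hb
  have hab : a ^ p = b := by
    refine (isGen_pw he p W le_rfl).1 ?_
    change a ^ p • res _ le_rfl _ = b • res _ le_rfl _
    rw [res_self]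
    exact hb
  rw [← hab, hs', ha]

theorem powHom_smulAb (g : Coh.Γtop X) :
    Coh.smulAb L g ≫ powHom p φ hφ hL = powHom p φ hφ hL ≫ Coh.smulAb (CohB1.tensorPow L p) (g ^ p) := by
  ext U t
  let r : Γ(X, U.unop) := Coh.resTop X U g
  have e : (Coh.resTop X U (g ^ p) : Γ(X, U.unop)) = r ^ p := map_pow _ g p
  exact (pw_smul r t p).trans (congrArg (fun z : Γ(X, U.unop) => z • pw t p) e.symm)

include hs hlin hφ hL in
/-- The power map induces a semilinear injection in cohomology. -/
theorem exists_semilinear (k : Type u) [Field k] [X.Over (Spec (CommRingCat.of k))] (i : ℕ) :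
    ∃ T : Coh.HH X L i →+ Coh.HH X (CohB1.tensorPow L p) i,
      Function.Injective T ∧ ∀ (c : k) (v : Coh.HH X L i), T (c • v) = c ^ p • T v := by
  obtain ⟨β, hβ⟩ := exists_retraction p φ hφ s hlin hL fun U a => sp_pow p φ hφ s hs hlin a
  refine ⟨Sheaf.H.map (powHom p φ hφ hL) i, fun a b h => ?_, fun c v => ?_⟩
  · have h1 := congrArg (Sheaf.H.map β i) h
    rwa [← Sheaf.H.map_comp_apply, ← Sheaf.H.map_comp_apply, hβ, Sheaf.H.map_id_apply,
      Sheaf.H.map_id_apply] at h1
  · change Sheaf.H.map (powHom p φ hφ hL) i (Sheaf.H.map _ i v) =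
      Sheaf.H.map _ i (Sheaf.H.map (powHom p φ hφ hL) i v)
    rw [← Sheaf.H.map_comp_apply, ← Sheaf.H.map_comp_apply, powHom_smulAb]
    refine congrArg (fun f => Sheaf.H.map f i v) ?_
    exact congrArg (fun z => powHom p φ hφ hL ≫ Coh.smulAb (CohB1.tensorPow L p) z) (RingHom.map_pow (Coh.toGlobal (X ↘ Spec (CommRingCat.of k))) c p).symm

end Groth.Agent.FrobSplit
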